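import Cfsg.Agent.Inverted44.Core
import Cfsg.Agent.GlaubermanZJ.CenterFunctor
import Cfsg.Agent.LocalP.Basic
import Cfsg.Agent.Constrained.Basic
import Cfsg.Agent.Eq.Def_Transfer

/-!
For odd `p`, if some nontrivial `p`-element is inverted in `G` then one is inverted in `N(Z(J(S)))`.
-/

set_option autoImplicit false

open Cfsg
open scoped commutatorElement
open CfsgLib.GlaubermanZJ (maxIn exists_maxIn centerThompsonAOf_eq_sInf exists_frattini abelianCenter
  exists_mul_of_relIndex_pow le_comap_pCore relIndex_comap_pCore maxIn_eq_of_subset isMulCommutative_apply)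

namespace CfsgLib.Inverted44

universe u

variable {G : Type u} [Group G] [Finite G] {p : ℕ} [Fact p.Prime]

theorem InvIn.of_conj (g : G) {H : Subgroup G} (h : InvIn p (H.map (MulAut.conj g).toMonoidHom)) : InvIn p H :=
  h.of_map (MulAut.conj g).injective

theorem centerThompson_le (T : Subgroup G) : centerThompsonAOf T ≤ T :=
  (abelianCenter 2).obj_le G T

theorem normalizer_le_normalizer_centerThompson (T : Subgroup G) :
    Subgroup.normalizer (T : Set G) ≤ Subgroup.normalizer (centerThompsonAOf T : Set G) :=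
  (abelianCenter 2).normalizer_le_normalizer_obj T

/-- The hypothesis passes to the other Sylow subgroups. -/
theorem not_invIn_normalizer_sylow {S : Sylow p G}
    (h : ¬ InvIn p (Subgroup.normalizer (centerThompsonAOf (S : Subgroup G) : Set G))) (P : Sylow p G) :
    ¬ InvIn p (Subgroup.normalizer (centerThompsonAOf (P : Subgroup G) : Set G)) := by
  obtain ⟨g, rfl⟩ := MulAction.exists_smul_eq G S P
  intro hi
  refine h (InvIn.of_conj g ?_)
  rw [Subgroup.map_equiv_normalizer_eq]
  have he : (centerThompsonAOf (S : Subgroup G)).map (MulAut.conj g).toMonoidHom =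
      centerThompsonAOf ((g • S : Sylow p G) : Subgroup G) := (abelianCenter p).obj_conj g (S : Subgroup G)
  rwa [he]

/-- The statement, as an induction hypothesis. -/
def Descends (p : ℕ) [Fact p.Prime] (n : ℕ) : Prop :=
  ∀ (H : Type u) [Group H] [Finite H], Nat.card H < n → InvIn p (⊤ : Subgroup H) →
    ∀ S : Sylow p H, InvIn p (Subgroup.normalizer (centerThompsonAOf (S : Subgroup H) : Set H))

/-- The induction hypothesis applied to a proper subgroup. -/
theorem invIn_normalizer_of_proper (IH : Descends.{u} p (Nat.card G)) {X : Subgroup G} (hX : X ≠ ⊤)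
    (hi : InvIn p X) (R : Sylow p X) :
    InvIn p (X ⊓ Subgroup.normalizer (centerThompsonAOf ((R : Subgroup X).map X.subtype) : Set G)) := by
  have hcard : Nat.card X < Nat.card G :=
    lt_of_le_of_ne (Subgroup.card_le_card_group X) fun he => hX (Subgroup.eq_top_of_card_eq X he)
  have htop : InvIn p (⊤ : Subgroup X) := InvIn.of_map (f := X.subtype) X.subtype_injective (by
    rwa [← MonoidHom.range_eq_map, Subgroup.range_subtype])
  have h := (IH X hcard htop R).map X.subtype_injective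
  refine h.mono (le_inf (Subgroup.map_subtype_le _) ?_)
  have he : (centerThompsonAOf (R : Subgroup X)).map X.subtype =
      centerThompsonAOf ((R : Subgroup X).map X.subtype) := (abelianCenter p).map_subtype_obj X _
  rw [← he]
  exact Subgroup.le_normalizer_map X.subtype

/-- A marked subgroup: the centres of `J` of its `p`-overgroups are never normal. -/
def Marked (p : ℕ) (R : Subgroup G) : Prop :=
  ∀ R' : Subgroup G, IsPGroup p R' → R ≤ R' → ¬ (centerThompsonAOf R').Normal

/-- Proper subgroups containing a Sylow subgroup. -/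
theorem not_invIn_of_sylow_le (IH : Descends.{u} p (Nat.card G))
    (hgood : ∀ P : Sylow p G, ¬ InvIn p (Subgroup.normalizer (centerThompsonAOf (P : Subgroup G) : Set G)))
    {X : Subgroup G} (hX : X ≠ ⊤) (P : Sylow p G) (hPX : (P : Subgroup G) ≤ X) : ¬ InvIn p X := by
  intro hi
  refine hgood P ((invIn_normalizer_of_proper IH hX hi (P.subtype hPX)).mono ?_)
  rw [Sylow.coe_subtype, Subgroup.map_subgroupOf_eq_of_le hPX]
  exact inf_le_right

/-- Proper subgroups containing a marked subgroup. -/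
theorem not_invIn_of_marked (IH : Descends.{u} p (Nat.card G))
    (hgood : ∀ P : Sylow p G, ¬ InvIn p (Subgroup.normalizer (centerThompsonAOf (P : Subgroup G) : Set G)))
    {X : Subgroup G} (hX : X ≠ ⊤) {R : Subgroup G} (hRp : IsPGroup p R) (hRX : R ≤ X) (hR : Marked p R) :
    ¬ InvIn p X := by
  induction hd : Nat.card G - Nat.card R using Nat.strong_induction_on generalizing X R with
  | _ d ih =>
  intro hi
  obtain ⟨R₁, hR₁⟩ := (hRp.comap_subtype (K := X)).exists_le_sylow
  set Q := (R₁ : Subgroup X).map X.subtype with hQ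
  have hQp : IsPGroup p Q := R₁.2.map _
  have hRQ : R ≤ Q := fun r hr => ⟨⟨r, hRX hr⟩, hR₁ hr, rfl⟩
  set L := Subgroup.normalizer (centerThompsonAOf Q : Set G) with hL
  have hLtop : L ≠ ⊤ := fun h => hR Q hQp hRQ (Subgroup.normalizer_eq_top_iff.1 h)
  have hLi : InvIn p L := (invIn_normalizer_of_proper IH hX hi R₁).mono inf_le_right
  obtain ⟨P, hP⟩ := hQp.exists_le_sylow
  have hNQ : Subgroup.normalizer (Q : Set G) ≤ L := normalizer_le_normalizer_centerThompson Q
  rcases eq_or_lt_of_le hP with heq | hlt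
  · exact not_invIn_of_sylow_le IH hgood hLtop P (heq ▸ Subgroup.le_normalizer.trans hNQ) hLi
  · haveI : Group.IsNilpotent (P : Subgroup G) := P.2.isNilpotent
    have hlt' : Q.subgroupOf (P : Subgroup G) < ⊤ := by
      rw [lt_top_iff_ne_top, Ne, Subgroup.subgroupOf_eq_top]
      exact not_le_of_gt hlt
    have h2 := Group.normalizerCondition_of_isNilpotent _ hlt'
    set R₂ := (P : Subgroup G) ⊓ Subgroup.normalizer (Q : Set G) with hR₂
    have hQR₂ : Q < R₂ := by
      refine lt_of_le_not_ge (le_inf hlt.le Subgroup.le_normalizer) fun hle => h2.not_ge fun x hx => ?_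
      rw [← Subgroup.subgroupOf_normalizer_eq hlt.le] at hx
      exact hle ⟨x.2, hx⟩
    have hcard : Nat.card R < Nat.card R₂ :=
      lt_of_le_of_lt (Subgroup.card_le_of_le hRQ) (Set.ncard_lt_ncard (SetLike.coe_strictMono hQR₂) (Set.toFinite _))
    have hle : Nat.card R₂ ≤ Nat.card G := Subgroup.card_le_card_group R₂
    exact ih (Nat.card G - Nat.card R₂) (by omega) hLtop (P.2.to_le inf_le_left) (inf_le_right.trans hNQ)
      (fun R' hR' hle' => hR R' hR' ((hRQ.trans hQR₂.le).trans hle')) rfl hLi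

/-- A normal `p`-subgroup meeting `Z(J(S))` in a non-normal subgroup leads to a quadratic member of `𝒜(S)`. -/
theorem exists_quadratic_member (hp : p ≠ 2) (S : Sylow p G) (B : Subgroup G) [hBn : B.Normal]
    (hB : IsPGroup p B) (hWn : ¬ (B ⊓ centerThompsonAOf (S : Subgroup G)).Normal)
    (hmin : ∀ B' : Subgroup G, B'.Normal → B' < B → (B' ⊓ centerThompsonAOf (S : Subgroup G)).Normal) :
    ∃ A ∈ maxIn (fun A => IsMulCommutative A) (S : Subgroup G), ⁅⁅B, A⁆, A⁆ = ⊥ ∧
      ¬ A ≤ (pCore p (G ⧸ Subgroup.centralizer (B : Set G))).comap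
        (QuotientGroup.mk' (Subgroup.centralizer (B : Set G))) ∧
      B ≤ Subgroup.normalClosure (centerThompsonAOf (S : Subgroup G) : Set G) := by
  classical
  have hEbot : IsMulCommutative (⊥ : Subgroup G) := ⟨⟨fun a b => Subsingleton.elim _ _⟩⟩
  obtain ⟨A₁, hA₁⟩ := exists_maxIn (E := fun A : Subgroup G => IsMulCommutative A) hEbot (S : Subgroup G)
  set Z := centerThompsonAOf (S : Subgroup G) with hZdef
  have hZA : ∀ A ∈ maxIn (fun A => IsMulCommutative A) (S : Subgroup G), Z ≤ A := fun A hA => by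
    rw [hZdef, centerThompsonAOf_eq_sInf]; exact sInf_le hA
  have hZab : ∀ x ∈ Z, ∀ y ∈ Z, x * y = y * x := fun x hx y hy =>
    isMulCommutative_apply hA₁.2.1 (hZA _ hA₁ hx) (hZA _ hA₁ hy)
  set W := B ⊓ Z with hW
  have hBT : B ≤ (S : Subgroup G) := hB.le_sylow_of_normal S
  have hTW : (S : Subgroup G) ≤ Subgroup.normalizer (W : Set G) := by
    intro g hg
    rw [Subgroup.mem_normalizer_iff_map_conj_eq, hW,
      Subgroup.map_inf _ _ _ (MulAut.conj g).injective]
    congr 1
    · exact Subgroup.mem_normalizer_iff_map_conj_eq.1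
        (Subgroup.normalizer_eq_top_iff.2 hBn ▸ Subgroup.mem_top g)
    · exact Subgroup.mem_normalizer_iff_map_conj_eq.1
        (normalizer_le_normalizer_centerThompson _ (Subgroup.le_normalizer hg))
  set B₁ := Subgroup.normalClosure (W : Set G) with hB₁
  have hB₁B : B₁ ≤ B := Subgroup.normalClosure_le_normal inf_le_left
  have hWB₁ : W ≤ B₁ := Subgroup.le_normalClosure
  have heq : B₁ = B := by
    by_contra hne
    have h := hmin B₁ Subgroup.normalClosure_normal (lt_of_le_of_ne hB₁B hne)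
    have : B₁ ⊓ Z = W := le_antisymm (inf_le_inf_right _ hB₁B) (le_inf hWB₁ inf_le_right)
    rw [this] at h
    exact hWn h
  have hne : B ≠ ⊥ := fun h => hWn (by rw [hW, h, bot_inf_eq]; infer_instance)
  have hlt' : ⁅B, B⁆ < B := CfsgLib.GlaubermanZJ.commutator_lt_of_isPGroup hB hne
  haveI hW'n : (⁅B, B⁆ ⊓ Z).Normal := hmin ⁅B, B⁆ inferInstance hlt'
  have hWB : ⁅W, B⁆ ≤ ⁅B, B⁆ ⊓ Z := by
    refine le_inf (Subgroup.commutator_mono inf_le_left le_rfl) ?_
    rw [Subgroup.commutator_le]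
    intro w hw b hb
    have h1 : b * w⁻¹ * b⁻¹ ∈ W := (Subgroup.mem_normalizer_iff.1 (hTW (hBT hb)) _).1 (inv_mem hw)
    have h2 := mul_mem hw h1
    rw [show w * (b * w⁻¹ * b⁻¹) = ⁅w, b⁆ by rw [commutatorElement_def]; group] at h2
    exact h2.2
  have hB'Z : ⁅B, B⁆ ≤ Z := by
    refine le_trans ?_ (inf_le_right : ⁅B, B⁆ ⊓ Z ≤ Z)
    set q := QuotientGroup.mk' (⁅B, B⁆ ⊓ Z) with hq
    haveI : (B.map q).Normal := hBn.map q (QuotientGroup.mk'_surjective _)
    have h1 : W ≤ (Subgroup.centralizer (B.map q : Set _)).comap q := by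
      intro w hw
      rw [Subgroup.mem_comap, Subgroup.mem_centralizer_iff]
      rintro _ ⟨b, hb, rfl⟩
      have := hWB (Subgroup.commutator_mem_commutator hw hb)
      rw [← QuotientGroup.eq_one_iff, ← QuotientGroup.mk'_apply, map_commutatorElement,
        commutatorElement_eq_one_iff_mul_comm] at this
      exact this.symm
    have h2 : B ≤ (Subgroup.centralizer (B.map q : Set _)).comap q :=
      heq.ge.trans (Subgroup.normalClosure_le_normal h1)
    rw [Subgroup.commutator_le]
    intro b hb c hc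
    rw [← QuotientGroup.eq_one_iff, ← QuotientGroup.mk'_apply, map_commutatorElement,
      commutatorElement_eq_one_iff_mul_comm]
    exact (Subgroup.mem_centralizer_iff.1 (h2 hb) _ ⟨c, hc, rfl⟩).symm
  have hcl2 : ⁅⁅B, B⁆, B⁆ = ⊥ := by
    rw [Subgroup.commutator_eq_bot_iff_le_centralizer, Subgroup.le_centralizer_iff]
    refine heq.ge.trans (Subgroup.normalClosure_le_normal fun w hw => ?_)
    rw [SetLike.mem_coe, Subgroup.mem_centralizer_iff]
    exact fun d hd => hZab d (hB'Z hd) w hw.2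
  set L := (Subgroup.normalizer (W : Set G)).normalCore with hL
  have hLN : L ≤ Subgroup.normalizer (W : Set G) := Subgroup.normalCore_le _
  set K := (pCore p (G ⧸ Subgroup.centralizer (B : Set G))).comap
    (QuotientGroup.mk' (Subgroup.centralizer (B : Set G))) with hK
  haveI : (pCore p (G ⧸ Subgroup.centralizer (B : Set G))).Normal := Subgroup.sSup_normal _ fun _ h => h.1
  have hKL : K ≤ L := by
    rw [hL, Subgroup.normal_le_normalCore]
    intro d hd
    obtain ⟨c, hc, s, hs, -, rfl⟩ := exists_mul_of_relIndex_pow S (le_comap_pCore _)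
      (relIndex_comap_pCore _) hd
    exact mul_mem (Subgroup.centralizer_le_normalizer _ (Subgroup.centralizer_le (fun x hx => hx.1) hc)) (hTW hs)
  have hTL_n : ∀ n ∈ Subgroup.normalizer (((S : Subgroup G) ⊓ L : Subgroup G) : Set G),
      n ∈ Subgroup.normalizer (centerThompsonAOf ((S : Subgroup G) ⊓ L) : Set G) :=
    fun n hn => normalizer_le_normalizer_centerThompson _ hn
  have hex : ∃ A ∈ maxIn (fun A => IsMulCommutative A) (S : Subgroup G), ¬ A ≤ L := by
    by_contra hall
    simp only [not_exists, not_and, not_not] at hall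
    have heqF : centerThompsonAOf ((S : Subgroup G) ⊓ L) = Z := by
      rw [hZdef, centerThompsonAOf_eq_sInf, centerThompsonAOf_eq_sInf]
      congr 1
      refine Set.Subset.antisymm (maxIn_eq_of_subset inf_le_left hA₁ (le_inf hA₁.1 (hall _ hA₁))) ?_
      intro A hA
      exact ⟨le_inf hA.1 (hall _ hA), hA.2.1, fun C hC hCE => hA.2.2 C (hC.trans inf_le_left) hCE⟩
    apply hWn
    rw [← Subgroup.normalizer_eq_top_iff, eq_top_iff]
    intro g _
    obtain ⟨n, hn, c, hc, rfl⟩ := exists_frattini S L g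
    refine mul_mem ?_ (hLN hc)
    rw [Subgroup.mem_normalizer_iff_map_conj_eq, hW, Subgroup.map_inf _ _ _ (MulAut.conj n).injective]
    congr 1
    · exact Subgroup.mem_normalizer_iff_map_conj_eq.1
        (Subgroup.normalizer_eq_top_iff.2 hBn ▸ Subgroup.mem_top n)
    · have := hTL_n n hn
      rw [heqF] at this
      exact Subgroup.mem_normalizer_iff_map_conj_eq.1 this
  obtain ⟨A, ⟨hA, hAL⟩, hmax⟩ :=
    Set.exists_max_image {A | A ∈ maxIn (fun A => IsMulCommutative A) (S : Subgroup G) ∧ ¬ A ≤ L}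
      (fun A => Nat.card ↥(A ⊓ B)) (Set.toFinite _) (by obtain ⟨A, h1, h2⟩ := hex; exact ⟨A, h1, h2⟩)
  refine ⟨A, hA, ?_, fun h => hAL (h.trans hKL),
    heq.ge.trans (Subgroup.normalClosure_mono fun x hx => hx.2)⟩
  have hB'A : ⁅B, B⁆ ≤ A := hB'Z.trans (hZA _ hA)
  have hAab : IsMulCommutative A := hA.2.1
  by_cases hBA : B ≤ Subgroup.normalizer (A : Set G)
  · rw [eq_bot_iff, ← (Subgroup.commutator_eq_bot_iff_le_centralizer.2
      (Subgroup.le_centralizer_iff_isMulCommutative.2 hAab) : ⁅A, A⁆ = ⊥)]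
    refine Subgroup.commutator_mono ?_ le_rfl
    rw [Subgroup.commutator_le]
    intro b hb a ha
    rw [commutatorElement_def]
    exact mul_mem ((Subgroup.mem_normalizer_iff.1 (hBA hb) a).1 ha) (inv_mem ha)
  · exfalso
    obtain ⟨A', hA'T, hA'ab, hcard, hlt2, hA'N, -⟩ := CfsgLib.GlaubermanZJ.glauberman_replacement_in hp
      (S.isPGroup') hA.1 hBT hAab hcl2 hB'A Subgroup.le_normalizer_of_normal hBA
    have hA' : A' ∈ maxIn (fun A => IsMulCommutative A) (S : Subgroup G) :=
      ⟨hA'T, hA'ab, fun C hC hCE => hcard ▸ hA.2.2 C hC hCE⟩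
    have hA'L : A' ≤ L := by
      by_contra h
      exact absurd (hmax A' ⟨hA', h⟩)
        (not_le.2 (Set.ncard_lt_ncard (SetLike.coe_strictMono hlt2) (Set.toFinite _)))
    have hsub := maxIn_eq_of_subset (E := fun A : Subgroup G => IsMulCommutative A) inf_le_left hA'
      (le_inf hA'T hA'L)
    have hA'2 : A' ∈ maxIn (fun A => IsMulCommutative A) ((S : Subgroup G) ⊓ L) :=
      ⟨le_inf hA'T hA'L, hA'.2.1, fun C hC hCE => hA'.2.2 C (hC.trans inf_le_left) hCE⟩
    have hZ2 : Z ≤ centerThompsonAOf ((S : Subgroup G) ⊓ L) := by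
      rw [hZdef, centerThompsonAOf_eq_sInf, centerThompsonAOf_eq_sInf]
      exact sInf_le_sInf hsub
    have hBZ2 : B ≤ centerThompsonAOf ((S : Subgroup G) ⊓ L) := by
      refine heq.ge.trans ?_
      rw [hB₁, Subgroup.normalClosure, Subgroup.closure_le]
      intro x hx
      obtain ⟨w, hw, hwx⟩ := Group.mem_conjugatesOfSet_iff.1 hx
      obtain ⟨g, rfl⟩ := isConj_iff.1 hwx
      obtain ⟨n, hn, c, hc, rfl⟩ := exists_frattini S L g
      have h1 : c * w * c⁻¹ ∈ W := (Subgroup.mem_normalizer_iff.1 (hLN hc) _).1 hw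
      have h2 := (Subgroup.mem_normalizer_iff.1 (hTL_n n hn) _).1 (hZ2 h1.2)
      simpa [mul_assoc] using h2
    refine hBA (hBZ2.trans (le_trans ?_ hA'N))
    rw [centerThompsonAOf_eq_sInf]
    exact sInf_le hA'2

/-- A subgroup not inducing a `p`-group on a normal `p`-subgroup moves some chief factor inside it. -/
theorem exists_moved_chief_factor (B : Subgroup G) [B.Normal] (hBp : IsPGroup p B) (A : Subgroup G)
    (hA : ¬ A ≤ (pCore p (G ⧸ Subgroup.centralizer (B : Set G))).comap
      (QuotientGroup.mk' (Subgroup.centralizer (B : Set G)))) :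
    ∃ V W : Subgroup G, W.Normal ∧ V.Normal ∧ W < V ∧ V ≤ B ∧
      (∀ X : Subgroup G, X.Normal → W ≤ X → X ≤ V → X = W ∨ X = V) ∧
      ¬ ∀ a ∈ A, ∀ v ∈ V, ⁅v, a⁆ ∈ W := by
  classical
  let Pr : Subgroup G → Prop := fun V => V.Normal ∧ V ≤ B ∧ ¬ ∃ M : Subgroup G, M.Normal ∧ A ≤ M ∧
    ∀ m ∈ M, ∃ k : ℕ, m ^ p ^ k ∈ Subgroup.centralizer (V : Set G)
  have hB : Pr B := by
    refine ⟨inferInstance, le_rfl, fun ⟨M, hM, hAM, hpow⟩ => hA ?_⟩
    refine hAM.trans (Subgroup.map_le_iff_le_comap.1 ?_)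
    refine CfsgLib.LocalP.le_pCore (hM.map _ (QuotientGroup.mk'_surjective _)) ?_
    rintro ⟨_, m, hm, rfl⟩
    obtain ⟨k, hk⟩ := hpow m hm
    refine ⟨k, Subtype.ext ?_⟩
    rw [SubmonoidClass.coe_pow, OneMemClass.coe_one, ← map_pow]
    exact (QuotientGroup.eq_one_iff _).2 hk
  obtain ⟨V, hV, hVmin⟩ :=
    Set.exists_min_image {V | Pr V} (fun V => Nat.card V) (Set.toFinite _) ⟨B, hB⟩
  haveI := hV.1
  have hVne : V ≠ ⊥ := fun h => hV.2.2 ⟨⊤, inferInstance, le_top, fun m _ => ⟨0,
    Subgroup.mem_centralizer_iff.2 fun v hv => by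
      rw [h, SetLike.mem_coe, Subgroup.mem_bot] at hv
      subst hv; group⟩⟩
  obtain ⟨W, ⟨hWn, hWV⟩, hWmax⟩ := Set.exists_max_image {W : Subgroup G | W.Normal ∧ W < V}
    (fun W => Nat.card W) (Set.toFinite _) ⟨⊥, inferInstance, bot_lt_iff_ne_bot.2 hVne⟩
  refine ⟨V, W, hWn, hV.1, hWV, hV.2.1, fun X hX hWX hXV => ?_, fun hall => hV.2.2 ?_⟩
  · by_contra hne
    push Not at hne
    exact absurd (hWmax X ⟨hX, lt_of_le_of_ne hXV hne.2⟩)
      (not_le.2 (Set.ncard_lt_ncard (SetLike.coe_strictMono (lt_of_le_of_ne hWX (Ne.symm hne.1))) (Set.toFinite _)))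
  have hWsmall : ∃ M : Subgroup G, M.Normal ∧ A ≤ M ∧ ∀ m ∈ M, ∃ k : ℕ, m ^ p ^ k ∈ Subgroup.centralizer (W : Set G) := by
    by_contra hno
    exact absurd (hVmin W ⟨hWn, hWV.le.trans hV.2.1, hno⟩)
      (not_le.2 (Set.ncard_lt_ncard (SetLike.coe_strictMono hWV) (Set.toFinite _)))
  obtain ⟨M, hMn, hAM, hMpow⟩ := hWsmall
  haveI := hWn
  haveI := hMn
  set q := QuotientGroup.mk' W with hq
  haveI : (V.map q).Normal := hV.1.map q (QuotientGroup.mk'_surjective W)
  set M₀ := M ⊓ (Subgroup.centralizer (V.map q : Set (G ⧸ W))).comap q with hM₀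
  haveI : M₀.Normal := inferInstance
  refine ⟨M₀, inferInstance, le_inf hAM fun a ha => ?_, fun m hm => ?_⟩
  · rw [Subgroup.mem_comap, Subgroup.mem_centralizer_iff]
    rintro _ ⟨v, hv, rfl⟩
    have h1 : q ⁅v, a⁆ = 1 := (QuotientGroup.eq_one_iff _).2 (hall a ha v hv)
    rw [map_commutatorElement, commutatorElement_eq_one_iff_mul_comm] at h1
    exact h1
  obtain ⟨k, hk⟩ := hMpow m hm.1
  set w := m ^ p ^ k with hw
  have hwq : q w ∈ Subgroup.centralizer (V.map q : Set (G ⧸ W)) := by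
    rw [hw, map_pow]
    exact pow_mem hm.2 _
  have hWp : IsPGroup p W := hBp.to_le (hWV.le.trans hV.2.1)
  obtain ⟨l, hl⟩ := IsPGroup.iff_card.1 hWp
  refine ⟨k + l, ?_⟩
  rw [pow_add, pow_mul, ← hw, Subgroup.mem_centralizer_iff]
  intro v hv
  set c := w * v * w⁻¹ * v⁻¹ with hc
  have hcW : c ∈ W := by
    rw [← QuotientGroup.eq_one_iff, ← QuotientGroup.mk'_apply, hc, map_mul, map_mul, map_mul, map_inv, map_inv,
      ← Subgroup.mem_centralizer_iff.1 hwq (q v) ⟨v, hv, rfl⟩]
    show q v * q w * (q w)⁻¹ * (q v)⁻¹ = 1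
    group
  have hfix : w * c * w⁻¹ = c := by
    rw [← Subgroup.mem_centralizer_iff.1 hk c hcW, mul_inv_cancel_right]
  have hpow : ∀ i : ℕ, w ^ i * v * (w ^ i)⁻¹ = c ^ i * v := by
    intro i
    induction i with
    | zero => simp
    | succ i ih =>
      calc w ^ (i + 1) * v * (w ^ (i + 1))⁻¹ = w * (w ^ i * v * (w ^ i)⁻¹) * w⁻¹ := by rw [pow_succ']; group
        _ = (w * c * w⁻¹) ^ i * (w * v * w⁻¹) := by rw [ih, conj_pow]; group
        _ = c ^ i * (c * v) := by rw [hfix, show c * v = w * v * w⁻¹ from inv_mul_cancel_right _ v]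
        _ = c ^ (i + 1) * v := by rw [pow_succ]; group
  have h1 := hpow (p ^ l)
  rw [← hl, show c ^ Nat.card W = 1 from congrArg Subtype.val (pow_card_eq_one' (x := (⟨c, hcW⟩ : W))),
    one_mul, mul_inv_eq_iff_eq_mul] at h1
  rw [← hl]
  exact h1.symm

/-- The minimal counterexample does not exist. -/
theorem invIn_normalizer_centerThompson_aux (hp : p ≠ 2) (IH : Descends.{u} p (Nat.card G))
    (hi : InvIn p (⊤ : Subgroup G)) (S : Sylow p G) :
    InvIn p (Subgroup.normalizer (centerThompsonAOf (S : Subgroup G) : Set G)) := by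
  classical
  by_contra hS
  have hgood := not_invIn_normalizer_sylow hS
  set Z := centerThompsonAOf (S : Subgroup G) with hZ
  have hZn : ¬ Z.Normal := fun h => hS (hi.mono (by rw [Subgroup.normalizer_eq_top_iff.2 h]))
  obtain ⟨x, -, g, -, ⟨k, hk⟩, hx1, hgx⟩ := hi
  set U := pCore p G with hU
  haveI hUn : U.Normal := Subgroup.sSup_normal _ fun _ h => h.1
  have hUp : IsPGroup p U := CfsgLib.LocalP.isPGroup_pCore
  have hUS : U ≤ S := hUp.le_sylow_of_normal S
  have hzp : IsPGroup p (Subgroup.zpowers x) := by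
    rintro ⟨y, i, rfl⟩
    refine ⟨k, Subtype.ext ?_⟩
    show (x ^ i) ^ p ^ k = 1
    rw [← zpow_natCast, zpow_comm, zpow_natCast, hk, _root_.one_zpow]
  have hgN : g ∈ Subgroup.normalizer (Subgroup.zpowers x : Set G) := by
    rw [Subgroup.mem_normalizer_iff_map_conj_eq, MonoidHom.map_zpowers]
    show Subgroup.zpowers (g * x * g⁻¹) = _
    rw [hgx, Subgroup.zpowers_inv]
  -- `O_p(G) ≠ 1`
  have hU1 : U ≠ ⊥ := by
    intro hUb
    have hzne : Subgroup.zpowers x ≠ ⊥ := fun h => hx1 (Subgroup.mem_bot.1 (h ▸ Subgroup.mem_zpowers x))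
    have hnn : Subgroup.normalizer (Subgroup.zpowers x : Set G) ≠ ⊤ := fun h => hzne (le_bot_iff.1 (hUb ▸
      CfsgLib.LocalP.le_pCore (Subgroup.normalizer_eq_top_iff.1 h) hzp))
    refine not_invIn_of_marked IH hgood hnn hzp Subgroup.le_normalizer (fun R' hR' hle hn => ?_)
      ⟨x, Subgroup.le_normalizer (Subgroup.mem_zpowers x), g, hgN, ⟨k, hk⟩, hx1, hgx⟩
    have h1 := CfsgLib.LocalP.le_pCore hn (hR'.to_le (centerThompson_le R'))
    rw [← hU, hUb, le_bot_iff] at h1
    exact (abelianCenter p).obj_ne_bot G R' hR' (fun h => hzne (le_bot_iff.1 (h ▸ hle))) h1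
  have hSU : ¬ (S : Subgroup G) ≤ U := by
    intro h
    have hSn : (S : Subgroup G).Normal := by rw [le_antisymm h hUS]; exact hUn
    refine hZn (Subgroup.normalizer_eq_top_iff.1 (eq_top_iff.2 ?_))
    rw [← Subgroup.normalizer_eq_top_iff.2 hSn]
    exact normalizer_le_normalizer_centerThompson _
  -- every inverted `p`-element lies in `O_p(G)`
  have hxU : x ∈ U := by
    by_contra hxU
    set q := QuotientGroup.mk' U with hq
    have hqs : Function.Surjective q := QuotientGroup.mk'_surjective U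
    have hker : q.ker = U := QuotientGroup.ker_mk' U
    have hibar : InvIn p (⊤ : Subgroup (G ⧸ U)) :=
      ⟨q x, trivial, q g, trivial, ⟨k, by rw [← map_pow, hk, map_one]⟩,
        fun h => hxU ((QuotientGroup.eq_one_iff x).1 h),
        by rw [← map_inv q g, ← map_mul, ← map_mul, hgx, map_inv]⟩
    have hcardq : Nat.card (G ⧸ U) < Nat.card G := by
      rw [Subgroup.card_eq_card_quotient_mul_card_subgroup U]
      refine lt_mul_of_one_lt_right Nat.card_pos ?_
      rw [Finite.one_lt_card_iff_nontrivial, Subgroup.nontrivial_iff_ne_bot]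
      exact hU1
    set Sb := S.mapSurjective hqs with hSb
    have h1 := IH (G ⧸ U) hcardq hibar Sb
    set N₁ := (Subgroup.normalizer (centerThompsonAOf (Sb : Subgroup (G ⧸ U)) : Set (G ⧸ U))).comap q with hN₁
    have hSN₁ : (S : Subgroup G) ≤ N₁ := fun s hs => normalizer_le_normalizer_centerThompson _
      (Subgroup.le_normalizer (show q s ∈ (Sb : Subgroup (G ⧸ U)) from
        (Sylow.coe_mapSurjective hqs S).ge ⟨s, hs, rfl⟩))
    have hN₁top : N₁ ≠ ⊤ := by
      intro htop
      have hn : (centerThompsonAOf (Sb : Subgroup (G ⧸ U))).Normal := Subgroup.normalizer_eq_top_iff.1 (by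
        rw [← Subgroup.map_comap_eq_self_of_surjective hqs (Subgroup.normalizer _), ← hN₁, htop,
          Subgroup.map_top_of_surjective _ hqs])
      have h2 := CfsgLib.LocalP.le_pCore hn (Sb.2.to_le (centerThompson_le _))
      rw [show pCore p (G ⧸ U) = ⊥ from CfsgLib.Constrained.pCore_quotient_pCore, le_bot_iff] at h2
      refine (abelianCenter p).obj_ne_bot _ _ Sb.2 (fun h => hSU ?_) h2
      rw [Sylow.coe_mapSurjective, Subgroup.map_eq_bot_iff, hker] at h
      exact h
    refine not_invIn_of_sylow_le IH hgood hN₁top S hSN₁ (InvIn.lift hp q ?_)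
    rwa [hN₁, Subgroup.map_comap_eq_self_of_surjective hqs]
  -- some normal `p`-subgroup meets `Z` in a non-normal subgroup
  obtain ⟨B₀, hB₀⟩ : ∃ B : Subgroup G, B.Normal ∧ IsPGroup p B ∧ ¬ (B ⊓ Z).Normal := by
    by_contra hall
    push Not at hall
    have hY0 : (U ⊓ Z).Normal := hall U hUn hUp
    have hZU : ¬ Z ≤ U := fun h => hZn (inf_eq_right.2 h ▸ hY0)
    set C := Subgroup.centralizer (U : Set G) with hC
    set f := QuotientGroup.mk' (U ⊓ Z) with hf
    haveI : (U.map f).Normal := hUn.map f (QuotientGroup.mk'_surjective _)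
    set K₀ := (Subgroup.centralizer (U.map f : Set (G ⧸ (U ⊓ Z)))).comap f ⊓
      Subgroup.centralizer ((U ⊓ Z : Subgroup G) : Set G) with hK₀
    haveI : K₀.Normal := inferInstance
    have hZK₀ : Z ≤ K₀ := by
      intro z hz
      have hZc : ∀ w ∈ Z, w * z = z * w := fun w hw => by
        obtain ⟨A₁, hA₁⟩ := exists_maxIn (E := fun A : Subgroup G => IsMulCommutative A)
          ⟨⟨fun a b => Subsingleton.elim _ _⟩⟩ (S : Subgroup G)
        have hle : Z ≤ A₁ := by rw [hZ, centerThompsonAOf_eq_sInf]; exact sInf_le hA₁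
        exact isMulCommutative_apply hA₁.2.1 (hle hw) (hle hz)
      refine ⟨?_, Subgroup.mem_centralizer_iff.2 fun w hw => hZc w hw.2⟩
      refine Subgroup.mem_centralizer_iff.2 ?_
      rintro _ ⟨u, hu, rfl⟩
      have h1 : u * z * u⁻¹ * z⁻¹ ∈ U ⊓ Z := by
        refine ⟨?_, ?_⟩
        · rw [show u * z * u⁻¹ * z⁻¹ = u * (z * u⁻¹ * z⁻¹) by group]
          exact mul_mem hu (hUn.conj_mem _ (inv_mem hu) z)
        · exact Z.mul_mem ((Subgroup.mem_normalizer_iff.1
            (normalizer_le_normalizer_centerThompson _ (Subgroup.le_normalizer (hUS hu))) z).1 hz) (Z.inv_mem hz)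
      rw [← QuotientGroup.eq_one_iff, ← QuotientGroup.mk'_apply, map_mul, map_mul, map_mul, map_inv, map_inv,
        mul_inv_eq_one, mul_inv_eq_iff_eq_mul] at h1
      exact h1
    have hCK : C ≤ K₀ := by
      intro c hc
      refine ⟨?_, Subgroup.centralizer_le (fun w hw => hw.1) hc⟩
      refine Subgroup.mem_centralizer_iff.2 ?_
      rintro _ ⟨u, hu, rfl⟩
      rw [← map_mul, ← map_mul, Subgroup.mem_centralizer_iff.1 hc u hu]
    obtain ⟨l, hl⟩ := IsPGroup.iff_card.1 hUp
    have hidx : ∃ i : ℕ, C.relIndex K₀ = p ^ i := by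
      have hp' : IsPGroup p (K₀.map (QuotientGroup.mk' C)) := by
        rintro ⟨_, m, hm, rfl⟩
        refine ⟨l, Subtype.ext ?_⟩
        rw [SubmonoidClass.coe_pow, OneMemClass.coe_one, ← map_pow]
        refine (QuotientGroup.eq_one_iff _).2 (Subgroup.mem_centralizer_iff.2 fun v hv => ?_)
        set c := m * v * m⁻¹ * v⁻¹ with hc
        have hcY : c ∈ U ⊓ Z := by
          rw [← QuotientGroup.eq_one_iff, ← QuotientGroup.mk'_apply, hc, map_mul, map_mul, map_mul, map_inv,
            map_inv, ← Subgroup.mem_centralizer_iff.1 hm.1 (f v) ⟨v, hv, rfl⟩]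
          show f v * f m * (f m)⁻¹ * (f v)⁻¹ = 1
          group
        have hfix : m * c * m⁻¹ = c := by
          rw [← Subgroup.mem_centralizer_iff.1 hm.2 c hcY, mul_inv_cancel_right]
        have hpow : ∀ i : ℕ, m ^ i * v * (m ^ i)⁻¹ = c ^ i * v := by
          intro i
          induction i with
          | zero => simp
          | succ i ih =>
            calc m ^ (i + 1) * v * (m ^ (i + 1))⁻¹ = m * (m ^ i * v * (m ^ i)⁻¹) * m⁻¹ := by rw [pow_succ']; group
              _ = (m * c * m⁻¹) ^ i * (m * v * m⁻¹) := by rw [ih, conj_pow]; group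
              _ = c ^ i * (c * v) := by rw [hfix, show c * v = m * v * m⁻¹ from inv_mul_cancel_right _ v]
              _ = c ^ (i + 1) * v := by rw [pow_succ]; group
        have h1 := hpow (p ^ l)
        rw [← hl, show c ^ Nat.card U = 1 from congrArg Subtype.val (pow_card_eq_one' (x := (⟨c, hcY.1⟩ : U))),
          one_mul, mul_inv_eq_iff_eq_mul] at h1
        rw [← hl]
        exact h1.symm
      obtain ⟨i, hi⟩ := IsPGroup.iff_card.1 hp'
      refine ⟨i, ?_⟩
      have h2 := Subgroup.relIndex_ker (K := K₀) (QuotientGroup.mk' C)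
      rw [QuotientGroup.ker_mk'] at h2
      rw [h2, hi]
    set T := (S : Subgroup G) ⊓ K₀ with hT
    have hTn : T.Normal := by
      by_contra hTn
      obtain ⟨n, hn, d, hd, hgnd⟩ := exists_frattini S K₀ g
      obtain ⟨c, hc, s, hs, hsK, rfl⟩ := exists_mul_of_relIndex_pow S hCK hidx hd
      have hc' : n * c * n⁻¹ ∈ C := (inferInstance : C.Normal).conj_mem c hc n
      have hnsT : n * s ∈ Subgroup.normalizer (T : Set G) := mul_mem hn (Subgroup.le_normalizer ⟨hs, hsK⟩)
      have hinv : n * s * x * (n * s)⁻¹ = x⁻¹ := by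
        have h1 : g = n * c * n⁻¹ * (n * s) := by rw [hgnd]; group
        have h2 : n * s * x * (n * s)⁻¹ ∈ U := hUn.conj_mem x hxU _
        have h3 := Subgroup.mem_centralizer_iff.1 hc' _ h2
        rw [← hgx, h1]
        calc n * s * x * (n * s)⁻¹ = n * s * x * (n * s)⁻¹ * (n * c * n⁻¹) * (n * c * n⁻¹)⁻¹ := by group
          _ = n * c * n⁻¹ * (n * s * x * (n * s)⁻¹) * (n * c * n⁻¹)⁻¹ := by rw [h3]
          _ = n * c * n⁻¹ * (n * s) * x * (n * c * n⁻¹ * (n * s))⁻¹ := by group
      have hSN : (S : Subgroup G) ≤ Subgroup.normalizer (T : Set G) := fun t ht => by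
        rw [Subgroup.mem_normalizer_iff_map_conj_eq, hT, Subgroup.map_inf _ _ _ (MulAut.conj t).injective]
        exact congrArg₂ _ (Subgroup.mem_normalizer_iff_map_conj_eq.1 (Subgroup.le_normalizer ht))
          (Subgroup.mem_normalizer_iff_map_conj_eq.1 (by
            rw [Subgroup.normalizer_eq_top_iff.2 inferInstance]; trivial))
      exact not_invIn_of_sylow_le IH hgood (fun h => hTn (Subgroup.normalizer_eq_top_iff.1 h)) S hSN
        ⟨x, hSN (hUS hxU), n * s, hnsT, ⟨k, hk⟩, hx1, hinv⟩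
    exact hZU (fun z hz => CfsgLib.LocalP.le_pCore hTn (S.2.to_le inf_le_left)
      (show z ∈ T from ⟨centerThompson_le _ hz, hZK₀ hz⟩))
  -- a minimal one
  obtain ⟨B, ⟨hBn, hBp, hWn⟩, hBmin⟩ := Set.exists_min_image
    {B : Subgroup G | B.Normal ∧ IsPGroup p B ∧ ¬ (B ⊓ Z).Normal} (fun B => Nat.card B) (Set.toFinite _) ⟨B₀, hB₀⟩
  haveI := hBn
  obtain ⟨A, hA, hq, hAK, hBcl⟩ := exists_quadratic_member hp S B hBp hWn (fun B' hB' hlt => by
    by_contra h
    exact absurd (hBmin B' ⟨hB', hBp.to_le hlt.le, h⟩)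
      (not_le.2 (Set.ncard_lt_ncard (SetLike.coe_strictMono hlt) (Set.toFinite _))))
  -- `A` is marked
  have hmark : Marked p A := by
    intro R' hR' hAR' hn
    obtain ⟨P, hP⟩ := hR'.exists_le_sylow
    obtain ⟨c, rfl⟩ := MulAction.exists_smul_eq G S P
    have hmax : A ∈ maxIn (fun A => IsMulCommutative A) R' := ⟨hAR', hA.2.1, fun D hD hDab => by
      rw [← Subgroup.card_map_of_injective (f := (MulAut.conj c⁻¹).toMonoidHom) (MulAut.conj c⁻¹).injective (K := D)]
      refine hA.2.2 _ ?_ (CfsgLib.GlaubermanZJ.isMulCommutative_map _ hDab)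
      rintro _ ⟨y, hy, rfl⟩
      obtain ⟨s, hs, hsy⟩ := hP (hD hy)
      show c⁻¹ * y * c⁻¹⁻¹ ∈ _
      rw [← hsy]
      simp [mul_assoc]
      exact hs⟩
    have hZR : Z.map (MulAut.conj c).toMonoidHom ≤ centerThompsonAOf R' := by
      have he : Z.map (MulAut.conj c).toMonoidHom = centerThompsonAOf ((c • S : Sylow p G) : Subgroup G) :=
        (abelianCenter p).obj_conj c (S : Subgroup G)
      rw [he, centerThompsonAOf_eq_sInf, centerThompsonAOf_eq_sInf]
      refine sInf_le_sInf fun D hD => ⟨hD.1.trans hP, hD.2.1, fun E hE hEab => ?_⟩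
      refine le_trans ?_ (hD.2.2 A hAR' hA.2.1)
      rw [← Subgroup.card_map_of_injective (f := (MulAut.conj c⁻¹).toMonoidHom) (MulAut.conj c⁻¹).injective (K := E)]
      refine hA.2.2 _ ?_ (CfsgLib.GlaubermanZJ.isMulCommutative_map _ hEab)
      rintro _ ⟨y, hy, rfl⟩
      obtain ⟨s, hs, hsy⟩ := hE hy
      show c⁻¹ * y * c⁻¹⁻¹ ∈ _
      rw [← hsy]
      simp [mul_assoc]
      exact hs
    haveI := hn
    have hBle : B ≤ centerThompsonAOf R' := hBcl.trans (Subgroup.normalClosure_le_normal fun z hz => by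
      have h1 := hZR ⟨z, hz, rfl⟩
      simpa [mul_assoc] using hn.conj_mem _ h1 c⁻¹)
    refine hAK (le_trans (fun a ha => Subgroup.mem_centralizer_iff.2 fun b hb => ?_) (le_comap_pCore _))
    have hle : centerThompsonAOf R' ≤ A := by rw [centerThompsonAOf_eq_sInf]; exact sInf_le hmax
    exact isMulCommutative_apply hA.2.1 (hle (hBle hb)) ha
  -- the chief factor
  obtain ⟨V, W, hWn', hVn, hWV, hVB, hchief, hmove⟩ := exists_moved_chief_factor B hBp A hAK
  haveI := hWn'
  set q := QuotientGroup.mk' W with hq'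
  have hqs : Function.Surjective q := QuotientGroup.mk'_surjective W
  set Vb := V.map q with hVb
  haveI : Vb.Normal := hVn.map q hqs
  have hker : q.ker = W := QuotientGroup.ker_mk' W
  have hmin : ∀ X : Subgroup (G ⧸ W), X.Normal → X ≤ Vb → X = ⊥ ∨ X = Vb := by
    intro X hX hXV
    have h1 : W ≤ X.comap q := hker.ge.trans (Subgroup.ker_le_comap q X)
    have h2 : X.comap q ≤ V := by
      intro y hy
      obtain ⟨v, hv, hvy⟩ := hXV hy
      have : v⁻¹ * y ∈ W := (QuotientGroup.eq (s := W)).1 hvy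
      simpa using mul_mem hv (hWV.le this)
    rcases hchief _ inferInstance h1 h2 with h | h
    · exact Or.inl (by rw [← Subgroup.map_comap_eq_self_of_surjective hqs X, h, Subgroup.map_eq_bot_iff, hker])
    · exact Or.inr (by rw [← Subgroup.map_comap_eq_self_of_surjective hqs X, h])
  have hVbp : IsPGroup p Vb := (hBp.to_le hVB).map q
  have hVb1 : Vb ≠ ⊥ := fun h => hWV.not_ge (by rw [← hker]; exact (Subgroup.map_eq_bot_iff V).1 h)
  have hVab : ∀ u ∈ Vb, ∀ v ∈ Vb, u * v = v * u := by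
    have hlt := CfsgLib.GlaubermanZJ.commutator_lt_of_isPGroup hVbp hVb1
    have h0 : ⁅Vb, Vb⁆ = ⊥ := (hmin _ inferInstance hlt.le).resolve_right hlt.ne
    exact fun u hu v hv => commutatorElement_eq_one_iff_mul_comm.1
      (Subgroup.mem_bot.1 (h0 ▸ Subgroup.commutator_mem_commutator hu hv))
  have hVel : IsElementaryAbelian p Vb := by
    refine CfsgLib.LocalP.isElementaryAbelian_iff.2 ⟨hVab, ?_⟩
    let E : Subgroup (G ⧸ W) :=
      { carrier := {v | v ∈ Vb ∧ v ^ p = 1}
        one_mem' := ⟨one_mem _, one_pow _⟩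
        mul_mem' := fun {a b} ha hb => ⟨mul_mem ha.1 hb.1, by
          rw [Commute.mul_pow (hVab a ha.1 b hb.1), ha.2, hb.2, one_mul]⟩
        inv_mem' := fun {a} ha => ⟨inv_mem ha.1, by rw [inv_pow, ha.2, inv_one]⟩ }
    have hEn : E.Normal := ⟨fun v hv y => ⟨(inferInstance : Vb.Normal).conj_mem v hv.1 y, by
      rw [conj_pow, hv.2]; group⟩⟩
    obtain ⟨z, hz, hz1, hzp, -⟩ := CfsgLib.GlaubermanZJ.exists_center_prime hVbp hVb1
    rcases hmin E hEn (fun v hv => hv.1) with h | h
    · have hzE : z ∈ E := ⟨hz, hzp⟩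
      rw [h, Subgroup.mem_bot] at hzE
      exact absurd hzE hz1
    · exact fun v hv => (h.ge hv).2
  refine absurd_of_quadratic hp Vb hVel hmin (A.map q) ?_ ?_ ?_
  · rw [hVb, ← Subgroup.map_commutator, ← Subgroup.map_commutator, eq_bot_iff]
    rintro _ ⟨y, hy, rfl⟩
    have h1 : ⁅⁅V, A⁆, A⁆ = ⊥ := le_bot_iff.1
      ((Subgroup.commutator_mono (Subgroup.commutator_mono hVB le_rfl) le_rfl).trans hq.le)
    rw [h1, SetLike.mem_coe, Subgroup.mem_bot] at hy
    subst hy
    exact Subgroup.mem_bot.2 (map_one q)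
  · intro h
    refine hmove fun a ha v hv => ?_
    have h1 := Subgroup.mem_centralizer_iff.1 (h ⟨a, ha, rfl⟩) (q v) ⟨v, hv, rfl⟩
    rw [← QuotientGroup.eq_one_iff, ← QuotientGroup.mk'_apply, map_commutatorElement,
      commutatorElement_eq_one_iff_mul_comm]
    exact h1
  · intro X hX hAX hXi
    refine not_invIn_of_marked IH hgood (X := X.comap q) (fun h => hX ?_) (S.2.to_le hA.1)
      (fun a ha => hAX ⟨a, ha, rfl⟩) hmark (InvIn.lift hp q ?_)
    · rw [← Subgroup.map_comap_eq_self_of_surjective hqs X, h, Subgroup.map_top_of_surjective _ hqs]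
    · rwa [Subgroup.map_comap_eq_self_of_surjective hqs]

omit [Finite G] in
theorem descends (hp : p ≠ 2) (n : ℕ) : Descends.{u} p n := by
  induction n with
  | zero => intro H _ _ h; exact absurd h (Nat.not_lt_zero _)
  | succ n ih =>
    intro H _ _ hH hi S
    rcases Nat.lt_succ_iff_lt_or_eq.1 hH with h | h
    · exact ih H h hi S
    · exact invIn_normalizer_centerThompson_aux hp (h ▸ ih) hi S

/-- If a nontrivial `p`-element is inverted in `G`, one is inverted in `N(Z(J(S)))`. -/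
theorem invIn_normalizer_centerThompson (hp : p ≠ 2) (hi : InvIn p (⊤ : Subgroup G)) (S : Sylow p G) :
    InvIn p (Subgroup.normalizer (centerThompsonAOf (S : Subgroup G) : Set G)) :=
  descends hp (Nat.card G + 1) G (Nat.lt_succ_self _) hi S

end CfsgLib.Inverted44
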