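import Cfsg.Agent.Inverted44.CenterThompson
import Cfsg.Agent.S3861

/-!
Normal Sylow 2-subgroups through the normalizers of `Z(J(T))` for odd primes.
-/

set_option autoImplicit false

open Cfsg

namespace CfsgLib.Inverted44

/-- With a normal Sylow 2-subgroup no nontrivial element of odd prime power order is inverted. -/
theorem not_invIn_of_normal_two {G : Type*} [Group G] [Finite G] (h : ∀ P : Sylow 2 G, (P : Subgroup G).Normal)
    {q : ℕ} [Fact q.Prime] (hq : q ≠ 2) : ¬ InvIn q (⊤ : Subgroup G) := by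
  rintro ⟨x, -, g, -, ⟨k, hk⟩, hx1, hgx⟩
  obtain ⟨P⟩ : Nonempty (Sylow 2 G) := inferInstance
  refine ((Cfsg.Agent.S3861.result P).2 (h P)) x hx1 ?_ (isConj_iff.2 ⟨g, hgx⟩)
  exact (((Fact.out : q.Prime).odd_of_ne_two hq).pow).of_dvd_nat (orderOf_dvd_of_pow_eq_one hk)

/-- Without a normal Sylow 2-subgroup some element of odd prime order is inverted. -/
theorem exists_invIn_of_not_normal_two {G : Type*} [Group G] [Finite G] (P : Sylow 2 G)
    (h : ¬ (P : Subgroup G).Normal) :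
    ∃ q : ℕ, ∃ _ : Fact q.Prime, q ≠ 2 ∧ q ∣ Nat.card G ∧ InvIn q (⊤ : Subgroup G) := by
  obtain ⟨q, x, hq, hq2, hx, hc⟩ := Cfsg.Agent.S3861.exists_real_odd_of_not_normal P h
  haveI : Fact q.Prime := ⟨hq⟩
  obtain ⟨g, hg⟩ := isConj_iff.1 hc
  refine ⟨q, ⟨hq⟩, hq2, hx ▸ orderOf_dvd_natCard x, x, trivial, g, trivial, ⟨1, ?_⟩, ?_, hg⟩
  · rw [pow_one, ← hx, pow_orderOf_eq_one]
  · rintro rfl
    rw [orderOf_one] at hx
    exact hq.one_lt.ne hx

/-- A subgroup of a group with a normal Sylow 2-subgroup has one. -/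
theorem normal_two_subgroup {G : Type*} [Group G] [Finite G] (h : ∀ P : Sylow 2 G, (P : Subgroup G).Normal)
    (H : Subgroup G) (P : Sylow 2 H) : (P : Subgroup H).Normal := by
  by_contra hP
  obtain ⟨q, hq, hq2, -, hi⟩ := exists_invIn_of_not_normal_two P hP
  have h1 := hi.map H.subtype_injective
  exact not_invIn_of_normal_two h hq2 (h1.mono le_top)

/-- Without an inverted element of `T` in `N(Z(J(T)))` for every odd prime, the Sylow 2-subgroups are normal. -/
theorem normal_two_of_not_inverted {G : Type*} [Group G] [Finite G]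
    (h : ∀ (q : ℕ) [Fact q.Prime], q ≠ 2 → q ∣ Nat.card G → ∀ T : Sylow q G,
      ¬ InvIn q (Subgroup.normalizer (centerThompsonAOf (T : Subgroup G) : Set G))) (P : Sylow 2 G) :
    (P : Subgroup G).Normal := by
  by_contra hP
  obtain ⟨q, hq, hq2, hdvd, hi⟩ := exists_invIn_of_not_normal_two P hP
  obtain ⟨T⟩ : Nonempty (Sylow q G) := inferInstance
  exact h q hq2 hdvd T (invIn_normalizer_centerThompson hq2 hi T)

/-- An inverted `q`-element of a subgroup gives an inverted element of a given Sylow subgroup of it. -/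
theorem exists_inverted_mem_sylow {G : Type*} [Group G] [Finite G] {q : ℕ} [Fact q.Prime] (T : Sylow q G)
    (H : Subgroup G) (hT : (T : Subgroup G) ≤ H) (hi : InvIn q H) :
    ∃ x ∈ (T : Subgroup G), x ≠ 1 ∧ ∃ g ∈ H, g * x * g⁻¹ = x⁻¹ := by
  obtain ⟨x, hx, g, hg, ⟨k, hk⟩, hx1, hgx⟩ := hi
  have hxp : IsPGroup q (Subgroup.zpowers (⟨x, hx⟩ : H)) := by
    rintro ⟨y, i, rfl⟩
    refine ⟨k, Subtype.ext (Subtype.ext ?_)⟩
    show (x ^ i) ^ q ^ k = 1
    rw [← zpow_natCast, zpow_comm, zpow_natCast, hk, _root_.one_zpow]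
  obtain ⟨Q, hQ⟩ := hxp.exists_le_sylow
  obtain ⟨c, hc⟩ := MulAction.exists_smul_eq H Q (T.subtype hT)
  have hmem : c * ⟨x, hx⟩ * c⁻¹ ∈ ((T.subtype hT : Sylow q H) : Subgroup H) := by
    rw [← hc, Sylow.coe_subgroup_smul]
    exact Subgroup.mem_pointwise_smul_iff_inv_smul_mem.2 (by
      simpa [mul_assoc] using hQ (Subgroup.mem_zpowers _))
  rw [Sylow.coe_subtype, Subgroup.mem_subgroupOf] at hmem
  refine ⟨(c : G) * x * (c : G)⁻¹, hmem, fun e => hx1 ?_, (c : G) * g * (c : G)⁻¹,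
    mul_mem (mul_mem c.2 hg) (inv_mem c.2), ?_⟩
  · rwa [mul_inv_eq_one, mul_eq_left] at e
  · calc (c : G) * g * (c : G)⁻¹ * ((c : G) * x * (c : G)⁻¹) * ((c : G) * g * (c : G)⁻¹)⁻¹
        = (c : G) * (g * x * g⁻¹) * (c : G)⁻¹ := by group
      _ = ((c : G) * x * (c : G)⁻¹)⁻¹ := by rw [hgx]; group

end CfsgLib.Inverted44
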